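import Mathlib
import Groth.Prelude
import Groth.Agent.Lib.Helper8.DimOneUB1
import Groth.Agent.Lib.Helper7.Hensel.IntegralDomain

set_option linter.style.haveILetI false
set_option linter.unusedVariables false
set_option linter.unusedSectionVars false
set_option linter.overlappingInstances false
set_option autoImplicit false
set_option backward.isDefEq.respectTransparency.types false
set_option backward.isDefEq.respectTransparency false
set_option synthInstance.maxHeartbeats 400000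
set_option maxHeartbeats 1600000

/-!
# helper7: a formally isomorphic flat extension of a henselian local domain is "connected in
codimension zero"

Let `D` be a Noetherian henselian local domain and `D → C` a flat local map to a Noetherian local
ring with `D/𝔪ⁿ ≅ C/𝔪ⁿC`.  If `𝔟₁, 𝔟₂` are ideals of `C` with `𝔟₁ ∩ 𝔟₂ = 0` and `𝔟₁ + 𝔟₂ ⊇ 𝔪^L`,
then one of them contains `𝔪^L`.  (A concrete instance of formal glueing: `Hom_D(𝔠, C) = C·ι +
Hom_D(𝔠, D)` for an `𝔪`-primary ideal `𝔠` by the equational criterion of flatness; the resulting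
fraction `κ` is integral over `D`, `D[κ]` is local since `D` is henselian, and Nakayama.)
-/

universe u

namespace Groth.Agent.Helper7.DimOneComp

open IsLocalRing TensorProduct

section Nak

theorem isUnit_one_add_of_mem_smul {C R : Type*} [CommRing C] [IsLocalRing C] [CommRing R]
    [Algebra C R] [Module.Finite C R] (x : R)
    (hx : x ∈ (maximalIdeal C) • (⊤ : Submodule C R)) : IsUnit (1 + x) := by
  let P : Submodule C R := (Ideal.span {1 + x}).restrictScalars C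
  have hmulx : ∀ r : R, r * x ∈ (maximalIdeal C) • (⊤ : Submodule C R) := by
    intro r
    refine Submodule.smul_induction_on hx (fun a ha t _ => ?_) (fun y z hy hz => ?_)
    · rw [mul_smul_comm]
      exact Submodule.smul_mem_smul ha Submodule.mem_top
    · rw [mul_add]
      exact Submodule.add_mem _ hy hz
  have h1 : (⊤ : Submodule C R) ≤ P ⊔ (maximalIdeal C) • (⊤ : Submodule C R) := by
    intro r _
    have hr : r = r * (1 + x) + (-(r * x)) := by ring
    rw [hr]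
    refine Submodule.add_mem_sup ?_ (Submodule.neg_mem _ (hmulx r))
    show r * (1 + x) ∈ Ideal.span {1 + x}
    exact Ideal.mul_mem_left _ _ (Ideal.subset_span rfl)
  have h2 : (⊤ : Submodule C R) ≤ P :=
    Submodule.le_of_le_smul_of_le_jacobson_bot Module.Finite.fg_top
      (IsLocalRing.maximalIdeal_le_jacobson ⊥) h1
  have h3 : (1 : R) ∈ Ideal.span {1 + x} := h2 (Submodule.mem_top (x := (1 : R)))
  exact Ideal.span_singleton_eq_top.mp ((Ideal.eq_top_iff_one _).mpr h3)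

end Nak

section Core

variable (D C : Type u) [CommRing D] [IsDomain D] [HenselianLocalRing D] [IsNoetherianRing D]
  [CommRing C] [IsLocalRing C] [IsNoetherianRing C] [Algebra D C] [Module.Flat D C]
  [IsLocalHom (algebraMap D C)]

local notation "KD" => FractionRing D

/-- **Formal glueing, concretely**: a `D`-linear map from an `𝔪`-primary ideal `𝔠` of `D` to `C`
is multiplication by an element of `C` plus a `D`-valued linear map. -/
theorem exists_decomp
    (hsurj : ∀ (n : ℕ) (c : C), ∃ d : D,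
      c - algebraMap D C d ∈ ((maximalIdeal D) ^ n).map (algebraMap D C))
    (𝔠 : Ideal D) (L : ℕ) (hL : (maximalIdeal D) ^ L ≤ 𝔠) (β : 𝔠 →ₗ[D] C) :
    ∃ (c₀ : C) (γ : 𝔠 →ₗ[D] D), ∀ z : 𝔠,
      β z = c₀ * algebraMap D C z.1 + algebraMap D C (γ z) := by
  classical
  -- absorption
  have habs : ∀ (c : C) (γ : 𝔠 →ₗ[D] D), ∃ (c₀ : C) (γ₀ : 𝔠 →ₗ[D] D), ∀ z : 𝔠,
      c * algebraMap D C (γ z) = c₀ * algebraMap D C z.1 + algebraMap D C (γ₀ z) := by
    intro c γ
    obtain ⟨d, hd⟩ := hsurj L c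
    have hmem : c - algebraMap D C d ∈ 𝔠.map (algebraMap D C) := Ideal.map_mono hL hd
    let T : Ideal C :=
      { carrier := {h | ∃ c₀ : C, ∀ z : 𝔠,
          h * algebraMap D C (γ z) = c₀ * algebraMap D C z.1}
        add_mem' := by
          rintro x y ⟨c₁, h₁⟩ ⟨c₂, h₂⟩
          exact ⟨c₁ + c₂, fun z => by rw [add_mul, add_mul, h₁, h₂]⟩
        zero_mem' := ⟨0, fun z => by rw [zero_mul, zero_mul]⟩
        smul_mem' := by
          rintro t x ⟨c₁, h₁⟩
          exact ⟨t * c₁, fun z => by rw [smul_eq_mul, mul_assoc, h₁, mul_assoc]⟩ }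
    have hT : 𝔠.map (algebraMap D C) ≤ T := by
      rw [Ideal.map_le_iff_le_comap]
      intro w hw
      show ∃ c₀ : C, ∀ z : 𝔠,
        algebraMap D C w * algebraMap D C (γ z) = c₀ * algebraMap D C z.1
      refine ⟨algebraMap D C (γ ⟨w, hw⟩), fun z => ?_⟩
      rw [← map_mul, ← map_mul]
      congr 1
      have h1 : γ (w • z) = w * γ z := by rw [map_smul, smul_eq_mul]
      have h2 : γ (z.1 • (⟨w, hw⟩ : 𝔠)) = z.1 * γ ⟨w, hw⟩ := by rw [map_smul, smul_eq_mul]
      have h3 : w • z = z.1 • (⟨w, hw⟩ : 𝔠) := by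
        apply Subtype.ext
        rw [Submodule.coe_smul, Submodule.coe_smul, smul_eq_mul, smul_eq_mul]
        exact mul_comm _ _
      rw [← h1, h3, h2]
      exact mul_comm _ _
    obtain ⟨c₀, hc₀⟩ := hT hmem
    refine ⟨c₀, d • γ, fun z => ?_⟩
    have e : c * algebraMap D C (γ z) = algebraMap D C d * algebraMap D C (γ z) +
        (c - algebraMap D C d) * algebraMap D C (γ z) := by ring
    rw [e, hc₀ z, LinearMap.smul_apply, smul_eq_mul, map_mul]
    ring
  haveI : Module.Finite D 𝔠 := Module.Finite.iff_fg.mpr (IsNoetherian.noetherian 𝔠)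
  obtain ⟨r, π, hπ⟩ := Module.Finite.exists_fin' D 𝔠
  haveI : Module.Finite D (LinearMap.ker π) :=
    Module.Finite.iff_fg.mpr (IsNoetherian.noetherian _)
  have hcomp : (β ∘ₗ π) ∘ₗ (LinearMap.ker π).subtype = 0 := by
    apply LinearMap.ext
    intro v
    have hv : π v.1 = 0 := LinearMap.mem_ker.mp v.2
    show β (π v.1) = 0
    rw [hv, map_zero]
  obtain ⟨k, α, η, hxy, hαf⟩ := Module.Flat.exists_factorization_of_comp_eq_zero_of_free hcomp
  have hle : LinearMap.ker π ≤ LinearMap.ker α := by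
    intro v hv
    rw [LinearMap.mem_ker]
    exact LinearMap.congr_fun hαf ⟨v, hv⟩
  let γ' : 𝔠 →ₗ[D] (Fin k →₀ D) :=
    ((LinearMap.ker π).liftQ α hle) ∘ₗ (LinearMap.quotKerEquivOfSurjective π hπ).symm.toLinearMap
  have hγ' : ∀ v, γ' (π v) = α v := by
    intro v
    have h1 : (LinearMap.quotKerEquivOfSurjective π hπ).symm (π v) =
        Submodule.Quotient.mk v := by
      rw [LinearEquiv.symm_apply_eq, LinearMap.quotKerEquivOfSurjective_apply_mk]
    show ((LinearMap.ker π).liftQ α hle)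
      ((LinearMap.quotKerEquivOfSurjective π hπ).symm (π v)) = α v
    rw [h1, Submodule.liftQ_apply]
  have hβη : ∀ z : 𝔠, β z = η (γ' z) := by
    intro z
    obtain ⟨v, rfl⟩ := hπ z
    rw [hγ']
    exact LinearMap.congr_fun hxy v
  have hη : ∀ w : Fin k →₀ D, η w = ∑ j, w j • η (Finsupp.single j 1) := by
    intro w
    conv_lhs => rw [← Finsupp.univ_sum_single w]
    rw [map_sum]
    refine Finset.sum_congr rfl fun j _ => ?_
    rw [← Finsupp.smul_single_one j (w j), map_smul]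
  choose c₀f γ₀f hf using fun j : Fin k =>
    habs (η (Finsupp.single j 1)) ((Finsupp.lapply j : (Fin k →₀ D) →ₗ[D] D) ∘ₗ γ')
  refine ⟨∑ j, c₀f j, ∑ j, γ₀f j, fun z => ?_⟩
  rw [hβη, hη, Finset.sum_mul, LinearMap.sum_apply, map_sum, ← Finset.sum_add_distrib]
  refine Finset.sum_congr rfl fun j _ => ?_
  have := hf j z
  rw [LinearMap.comp_apply, Finsupp.lapply_apply] at this
  rw [Algebra.smul_def, mul_comm]
  exact this

/-- The idempotent attached to a multiplicative decomposition is trivial. -/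
theorem trivial_of_mul
    (hsurj : ∀ (n : ℕ) (c : C), ∃ d : D,
      c - algebraMap D C d ∈ ((maximalIdeal D) ^ n).map (algebraMap D C))
    (𝔠 : Ideal D) (y₀ : 𝔠) (hy₀0 : y₀.1 ≠ 0)
    (c₀ : C) (γ : 𝔠 →ₗ[D] D) (hγ𝔠 : ∀ z : 𝔠, γ z ∈ 𝔠) (β : 𝔠 → C)
    (hβ : ∀ z : 𝔠, β z = c₀ * algebraMap D C z.1 + algebraMap D C (γ z))
    (hmul : β y₀ * algebraMap D C y₀.1 = β y₀ * β y₀) :
    (∀ z : 𝔠, β z = 0) ∨ (∀ z : 𝔠, β z = algebraMap D C z.1) := by
  classical
  have hmap : (maximalIdeal D).map (algebraMap D C) = maximalIdeal C :=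
    Groth.Agent.Helper8.DimOneUB.map_maximalIdeal_eq D C hsurj
  have hsym : ∀ z w : 𝔠, z.1 * γ w = w.1 * γ z := by
    intro z w
    have h1 : γ (z.1 • w) = z.1 * γ w := by rw [map_smul, smul_eq_mul]
    have h2 : γ (w.1 • z) = w.1 * γ z := by rw [map_smul, smul_eq_mul]
    have h3 : z.1 • w = w.1 • z := by
      apply Subtype.ext
      rw [Submodule.coe_smul, Submodule.coe_smul, smul_eq_mul, smul_eq_mul]
      exact mul_comm _ _
    rw [← h1, h3, h2]
  have hy₀K : algebraMap D KD y₀.1 ≠ 0 := by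
    intro h
    exact hy₀0 ((IsFractionRing.injective D KD) (by rw [h, map_zero]))
  obtain ⟨κ, hκdef⟩ : ∃ x : KD, x = algebraMap D KD (γ y₀) / algebraMap D KD y₀.1 := ⟨_, rfl⟩
  have hκ : ∀ z : 𝔠, κ * algebraMap D KD z.1 = algebraMap D KD (γ z) := by
    intro z
    have := hsym z y₀
    rw [hκdef, div_mul_eq_mul_div, div_eq_iff hy₀K, ← map_mul, ← map_mul]
    congr 1
    rw [mul_comm, this]
    exact mul_comm _ _
  have hκint : IsIntegral D κ := by
    let N : Submodule D KD := Submodule.map (Algebra.linearMap D KD) 𝔠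
    have hN0 : N ≠ ⊥ := by
      intro h
      have : algebraMap D KD y₀.1 ∈ N := ⟨y₀.1, y₀.2, rfl⟩
      rw [h, Submodule.mem_bot] at this
      exact hy₀K this
    have hNfg : N.FG := (IsNoetherian.noetherian 𝔠).map _
    refine isIntegral_of_smul_mem_submodule N hN0 hNfg κ ?_
    rintro _ ⟨z, hz, rfl⟩
    refine ⟨γ ⟨z, hz⟩, hγ𝔠 ⟨z, hz⟩, ?_⟩
    rw [smul_eq_mul]
    exact (hκ ⟨z, hz⟩).symm
  obtain ⟨B₀, hB₀⟩ : ∃ B : Subalgebra D KD, B = Algebra.adjoin D {κ} := ⟨_, rfl⟩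
  have hfg : B₀.toSubmodule.FG := by rw [hB₀]; exact hκint.fg_adjoin_singleton
  have hκB : κ ∈ B₀ := by rw [hB₀]; exact Algebra.subset_adjoin rfl
  haveI hfinB : Module.Finite D B₀ := ⟨(Submodule.fg_top _).mpr hfg⟩
  haveI : Algebra.IsIntegral D B₀ := Algebra.IsIntegral.of_finite D B₀
  haveI : IsLocalRing B₀ := Groth.Agent.Helper7.Hensel.isLocalRing_of_isIntegral_domain D B₀
  obtain ⟨κ', hκ'def⟩ : ∃ x : B₀, x = ⟨κ, hκB⟩ := ⟨_, rfl⟩
  have hκ' : ∀ z : 𝔠, z.1 • κ' = algebraMap D B₀ (γ z) := by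
    intro z
    apply Subtype.ext
    rw [hκ'def]
    show z.1 • κ = algebraMap D KD (γ z)
    rw [Algebra.smul_def, mul_comm]
    exact hκ z
  -- the tensor product
  obtain ⟨ε, hεdef⟩ : ∃ e : C ⊗[D] B₀, e = c₀ ⊗ₜ[D] (1 : B₀) + (1 : C) ⊗ₜ[D] κ' := ⟨_, rfl⟩
  have hε : ∀ z : 𝔠, z.1 • ε = (β z) ⊗ₜ[D] (1 : B₀) := by
    intro z
    have h1 : z.1 • (c₀ ⊗ₜ[D] (1 : B₀)) = (c₀ * algebraMap D C z.1) ⊗ₜ[D] (1 : B₀) := by
      rw [TensorProduct.smul_tmul', Algebra.smul_def, mul_comm]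
    have h2 : z.1 • ((1 : C) ⊗ₜ[D] κ') = (algebraMap D C (γ z)) ⊗ₜ[D] (1 : B₀) := by
      rw [← TensorProduct.tmul_smul, hκ' z, Algebra.algebraMap_eq_smul_one,
        TensorProduct.tmul_smul, TensorProduct.smul_tmul', Algebra.smul_def, mul_one]
    rw [hεdef, smul_add, h1, h2, ← TensorProduct.add_tmul, hβ z]
  have hinj_smul : ∀ w : C ⊗[D] B₀, y₀.1 • w = 0 → w = 0 := by
    intro w hw
    have hinjB : Function.Injective (LinearMap.lsmul D B₀ y₀.1) := by
      intro b b' hbb'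
      have h1 : y₀.1 • (b : KD) = y₀.1 • (b' : KD) := congrArg Subtype.val hbb'
      rw [Algebra.smul_def, Algebra.smul_def] at h1
      exact Subtype.ext (mul_left_cancel₀ hy₀K h1)
    have hinjT := Module.Flat.lTensor_preserves_injective_linearMap (M := C)
      (LinearMap.lsmul D B₀ y₀.1) hinjB
    apply hinjT
    rw [map_zero]
    have e : (LinearMap.lsmul D B₀ y₀.1).lTensor C = LinearMap.lsmul D (C ⊗[D] B₀) y₀.1 := by
      apply TensorProduct.ext'
      intro c b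
      rw [LinearMap.lTensor_tmul, LinearMap.lsmul_apply, LinearMap.lsmul_apply,
        TensorProduct.tmul_smul]
    rw [e]
    exact hw
  have hidem : ε * ε = ε := by
    have hy : y₀.1 • ε = (β y₀) ⊗ₜ[D] (1 : B₀) := hε y₀
    have e1 : y₀.1 • y₀.1 • (ε * ε) = y₀.1 • y₀.1 • ε := by
      have e2 : y₀.1 • y₀.1 • (ε * ε) = (y₀.1 • ε) * (y₀.1 • ε) := by
        rw [smul_mul_assoc, mul_smul_comm]
      rw [e2, hy, Algebra.TensorProduct.tmul_mul_tmul, TensorProduct.smul_tmul', Algebra.smul_def,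
        mul_one, ← hmul]
      congr 1
      exact mul_comm _ _
    have h2 : y₀.1 • (y₀.1 • (ε * ε - ε)) = 0 := by rw [smul_sub, smul_sub, e1, sub_self]
    exact sub_eq_zero.mp (hinj_smul _ (hinj_smul _ h2))
  -- approximate `c₀`
  obtain ⟨d₀, hd₀⟩ := hsurj 1 c₀
  rw [pow_one, hmap] at hd₀
  obtain ⟨h, hhdef⟩ : ∃ x : C, x = c₀ - algebraMap D C d₀ := ⟨_, rfl⟩
  rw [← hhdef] at hd₀
  have hswap : ∀ d : D, (1 : C) ⊗ₜ[D] (algebraMap D B₀ d) = (algebraMap D C d) ⊗ₜ[D] (1 : B₀) := by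
    intro d
    rw [Algebra.algebraMap_eq_smul_one, Algebra.algebraMap_eq_smul_one, TensorProduct.tmul_smul,
      TensorProduct.smul_tmul']
  obtain ⟨u, hudef⟩ : ∃ x : B₀, x = algebraMap D B₀ d₀ + κ' := ⟨_, rfl⟩
  have hεu : ε = (1 : C) ⊗ₜ[D] u + h ⊗ₜ[D] (1 : B₀) := by
    rw [hεdef, hudef, hhdef, TensorProduct.tmul_add, hswap, TensorProduct.sub_tmul]
    abel
  have hx : ∀ v : B₀, h ⊗ₜ[D] v ∈ (maximalIdeal C) • (⊤ : Submodule C (C ⊗[D] B₀)) := by
    intro v
    have e : h ⊗ₜ[D] v = h • ((1 : C) ⊗ₜ[D] v) := by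
      rw [TensorProduct.smul_tmul', smul_eq_mul, mul_one]
    rw [e]
    exact Submodule.smul_mem_smul hd₀ Submodule.mem_top
  have hCinj : ∀ c c' : C, c ⊗ₜ[D] (1 : B₀) = c' ⊗ₜ[D] (1 : B₀) → c = c' := by
    have hinjDB : Function.Injective (Algebra.linearMap D B₀) := by
      intro d d' hdd'
      apply IsFractionRing.injective D KD
      exact congrArg Subtype.val hdd'
    have hinjT := Module.Flat.lTensor_preserves_injective_linearMap (M := C)
      (Algebra.linearMap D B₀) hinjDB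
    intro c c' hcc'
    have h1 : (Algebra.linearMap D B₀).lTensor C (c ⊗ₜ[D] (1 : D)) =
        (Algebra.linearMap D B₀).lTensor C (c' ⊗ₜ[D] (1 : D)) := by
      rw [LinearMap.lTensor_tmul, LinearMap.lTensor_tmul, Algebra.linearMap_apply, map_one]
      exact hcc'
    have h2 := hinjT h1
    have h3 := congrArg (TensorProduct.rid D C) h2
    rw [TensorProduct.rid_tmul, TensorProduct.rid_tmul, one_smul, one_smul] at h3
    exact h3
  rcases IsLocalRing.isUnit_or_isUnit_one_sub_self u with hu | hu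
  · right
    obtain ⟨v, hv⟩ := hu.exists_right_inv
    have hprod : ε * ((1 : C) ⊗ₜ[D] v) = 1 + h ⊗ₜ[D] v := by
      rw [hεu, add_mul, Algebra.TensorProduct.tmul_mul_tmul, Algebra.TensorProduct.tmul_mul_tmul,
        hv, one_mul, one_mul, mul_one, Algebra.TensorProduct.one_def]
    have hunit : IsUnit ((1 : C ⊗[D] B₀) + h ⊗ₜ[D] v) :=
      isUnit_one_add_of_mem_smul _ (hx v)
    have hεunit : IsUnit ε := isUnit_of_mul_isUnit_left (by rw [hprod]; exact hunit)
    have hε1 : ε = 1 := hεunit.mul_left_cancel (by rw [hidem, mul_one])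
    intro z
    apply hCinj
    rw [← hε z, hε1, Algebra.TensorProduct.one_def, TensorProduct.smul_tmul', Algebra.smul_def,
      mul_one]
  · left
    obtain ⟨v, hv⟩ := hu.exists_right_inv
    have hprod : (1 - ε) * ((1 : C) ⊗ₜ[D] v) = 1 + (-(h ⊗ₜ[D] v)) := by
      have e1 : (1 : C ⊗[D] B₀) - ε = (1 : C) ⊗ₜ[D] (1 - u) - h ⊗ₜ[D] (1 : B₀) := by
        rw [hεu, TensorProduct.tmul_sub, Algebra.TensorProduct.one_def]
        abel
      rw [e1, sub_mul, Algebra.TensorProduct.tmul_mul_tmul, Algebra.TensorProduct.tmul_mul_tmul,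
        hv, one_mul, one_mul, mul_one, Algebra.TensorProduct.one_def, sub_eq_add_neg]
    have hunit : IsUnit ((1 : C ⊗[D] B₀) + (-(h ⊗ₜ[D] v))) :=
      isUnit_one_add_of_mem_smul _ (Submodule.neg_mem _ (hx v))
    have hidem' : (1 - ε) * (1 - ε) = 1 - ε := by
      have e2 : (1 - ε) * (1 - ε) = 1 - ε - ε + ε * ε := by ring
      rw [e2, hidem]
      ring
    have hunit' : IsUnit (1 - ε) := isUnit_of_mul_isUnit_left (by rw [hprod]; exact hunit)
    have h1 : 1 - ε = 1 := hunit'.mul_left_cancel (by rw [hidem', mul_one])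
    have hε0 : ε = 0 := sub_eq_self.mp h1
    intro z
    apply hCinj
    rw [← hε z, hε0, smul_zero, TensorProduct.zero_tmul]

/-- **Main glueing statement.** -/
theorem pow_le_or_pow_le
    (hsurj : ∀ (n : ℕ) (c : C), ∃ d : D,
      c - algebraMap D C d ∈ ((maximalIdeal D) ^ n).map (algebraMap D C))
    (𝔟₁ 𝔟₂ : Ideal C) (hinf : 𝔟₁ ⊓ 𝔟₂ = ⊥) (L : ℕ) (hL : maximalIdeal C ^ L ≤ 𝔟₁ ⊔ 𝔟₂) :
    maximalIdeal C ^ L ≤ 𝔟₁ ∨ maximalIdeal C ^ L ≤ 𝔟₂ := by
  classical
  have hmap : (maximalIdeal D).map (algebraMap D C) = maximalIdeal C :=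
    Groth.Agent.Helper8.DimOneUB.map_maximalIdeal_eq D C hsurj
  have hmapL : ((maximalIdeal D) ^ L).map (algebraMap D C) = maximalIdeal C ^ L := by
    rw [Ideal.map_pow, hmap]
  obtain ⟨𝔠, h𝔠⟩ : ∃ I : Ideal D, I = (𝔟₁ ⊔ 𝔟₂).comap (algebraMap D C) := ⟨_, rfl⟩
  have hmem𝔠 : ∀ w : D, w ∈ 𝔠 ↔ algebraMap D C w ∈ 𝔟₁ ⊔ 𝔟₂ := by
    intro w
    rw [h𝔠, Ideal.mem_comap]
  have hmL𝔠 : (maximalIdeal D) ^ L ≤ 𝔠 := by
    rw [h𝔠, ← Ideal.map_le_iff_le_comap, hmapL]
    exact hL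
  by_cases hbot : (maximalIdeal D) ^ L = ⊥
  · left
    rw [← hmapL, hbot, Ideal.map_bot]
    exact bot_le
  obtain ⟨y₀, hy₀m, hy₀0⟩ := Submodule.exists_mem_ne_zero_of_ne_bot hbot
  have hex : ∀ y : 𝔠, ∃ b₂ : C, b₂ ∈ 𝔟₂ ∧ algebraMap D C y.1 - b₂ ∈ 𝔟₁ := by
    intro y
    obtain ⟨b₁, hb₁, b₂, hb₂, hsum⟩ := Submodule.mem_sup.mp ((hmem𝔠 y.1).mp y.2)
    exact ⟨b₂, hb₂, by rw [← hsum, add_sub_cancel_right]; exact hb₁⟩
  have huniq : ∀ (x b b' : C), b ∈ 𝔟₂ → x - b ∈ 𝔟₁ → b' ∈ 𝔟₂ → x - b' ∈ 𝔟₁ → b = b' := by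
    intro x b b' hb hxb hb' hxb'
    have h1 : b - b' ∈ 𝔟₁ ⊓ 𝔟₂ := by
      refine ⟨?_, 𝔟₂.sub_mem hb hb'⟩
      have e : b - b' = (x - b') - (x - b) := by ring
      rw [e]
      exact 𝔟₁.sub_mem hxb' hxb
    rw [hinf, Ideal.mem_bot] at h1
    exact sub_eq_zero.mp h1
  choose βf hβf using hex
  let β : 𝔠 →ₗ[D] C :=
    { toFun := βf
      map_add' := fun y z => by
        refine huniq (algebraMap D C (y + z : 𝔠).1) _ _ (hβf _).1 (hβf _).2
          (𝔟₂.add_mem (hβf y).1 (hβf z).1) ?_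
        have e : algebraMap D C (y + z : 𝔠).1 - (βf y + βf z) =
            (algebraMap D C y.1 - βf y) + (algebraMap D C z.1 - βf z) := by
          rw [Submodule.coe_add, map_add]
          ring
        rw [e]
        exact 𝔟₁.add_mem (hβf y).2 (hβf z).2
      map_smul' := fun d y => by
        refine huniq (algebraMap D C (d • y : 𝔠).1) _ _ (hβf _).1 (hβf _).2 ?_ ?_
        · rw [RingHom.id_apply, Algebra.smul_def]
          exact 𝔟₂.mul_mem_left _ (hβf y).1
        · have e : algebraMap D C (d • y : 𝔠).1 - (RingHom.id D d) • βf y =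
              algebraMap D C d * (algebraMap D C y.1 - βf y) := by
            rw [RingHom.id_apply, Algebra.smul_def, Submodule.coe_smul, smul_eq_mul, map_mul]
            ring
          rw [e]
          exact 𝔟₁.mul_mem_left _ (hβf y).2 }
  have hβ : ∀ y : 𝔠, β y ∈ 𝔟₂ ∧ algebraMap D C y.1 - β y ∈ 𝔟₁ := hβf
  have hmul : ∀ y z : 𝔠, β y * algebraMap D C z.1 = β y * β z := by
    intro y z
    have h1 : β y * (algebraMap D C z.1 - β z) ∈ 𝔟₁ ⊓ 𝔟₂ :=
      ⟨𝔟₁.mul_mem_left _ (hβ z).2, 𝔟₂.mul_mem_right _ (hβ y).1⟩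
    rw [hinf, Ideal.mem_bot, mul_sub] at h1
    exact sub_eq_zero.mp h1
  obtain ⟨c₀, γ, hdecomp⟩ := exists_decomp D C hsurj 𝔠 L hmL𝔠 β
  have hγ𝔠 : ∀ z : 𝔠, γ z ∈ 𝔠 := by
    intro z
    rw [hmem𝔠]
    have e : algebraMap D C (γ z) = β z - c₀ * algebraMap D C z.1 := by
      rw [hdecomp z]
      ring
    rw [e]
    exact Ideal.sub_mem _ (Ideal.mem_sup_right (hβ z).1)
      (Ideal.mul_mem_left _ _ ((hmem𝔠 z.1).mp z.2))
  have hy₀𝔠 : y₀ ∈ 𝔠 := hmL𝔠 hy₀m
  rcases trivial_of_mul D C hsurj 𝔠 ⟨y₀, hy₀𝔠⟩ hy₀0 c₀ γ hγ𝔠 (fun z => β z) hdecomp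
    (hmul _ _) with h0 | h1
  · left
    rw [← hmapL, Ideal.map_le_iff_le_comap]
    intro w hw
    rw [Ideal.mem_comap]
    have := (hβ ⟨w, hmL𝔠 hw⟩).2
    rw [h0 ⟨w, hmL𝔠 hw⟩, sub_zero] at this
    exact this
  · right
    rw [← hmapL, Ideal.map_le_iff_le_comap]
    intro w hw
    rw [Ideal.mem_comap]
    have := (hβ ⟨w, hmL𝔠 hw⟩).1
    rw [h1 ⟨w, hmL𝔠 hw⟩] at this
    exact this

end Core

end Groth.Agent.Helper7.DimOneComp
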