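import Mathlib
import Groth.Prelude
import Groth.Agent.Lib.Helper8.DimOneUB1
import Groth.Agent.Lib.Helper7.Hensel.IdemLift
import Groth.Agent.Lib.Helper7.Hensel.Local
import Groth.Agent.Lib.Helper7.DimOneComp.Core

set_option linter.style.haveILetI false
set_option linter.unusedVariables false
set_option linter.unusedSectionVars false
set_option linter.overlappingInstances false
set_option autoImplicit false
set_option backward.isDefEq.respectTransparency.types false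
set_option backward.isDefEq.respectTransparency false
set_option synthInstance.maxHeartbeats 400000
set_option maxHeartbeats 1600000

/-!
# helper7: descent of decompositions along a formally isomorphic flat extension of a henselian
local ring

`D` Noetherian henselian local, `D → C` flat local Noetherian with `D/𝔪ⁿ ≅ C/𝔪ⁿC`.  If `𝔟₁ ∩ 𝔟₂ = 0`
and `𝔟₁ + 𝔟₂ ⊇ 𝔪^L` in `C` then `(𝔟₁ + 𝔟₂) ∩ D = 𝔟₁ ∩ D + 𝔟₂ ∩ D`.
-/

universe u

namespace Groth.Agent.Helper7.DimOneComp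

open IsLocalRing TensorProduct Polynomial

theorem eq_zero_of_lTensor_eq_zero {D C B : Type u} [CommRing D] [CommRing C] [Algebra D C]
    [Module.Flat D C] [AddCommGroup B] [Module D B] (r : ℕ) (θ : Fin r → (B →ₗ[D] D))
    (hθ : ∀ b : B, (∀ i, θ i b = 0) → b = 0) (ρ : C ⊗[D] B)
    (hρ : ∀ i, (θ i).lTensor C ρ = 0) : ρ = 0 := by
  classical
  let Θ : B →ₗ[D] (Fin r → D) := LinearMap.pi θ
  have hΘ : Function.Injective Θ := by
    rw [injective_iff_map_eq_zero]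
    intro b hb
    exact hθ b (fun i => congrFun hb i)
  have hinj := Module.Flat.lTensor_preserves_injective_linearMap (M := C) Θ hΘ
  apply hinj
  rw [map_zero]
  have key : ∀ ρ : C ⊗[D] B,
      TensorProduct.piRight D D C (fun _ : Fin r => D) (Θ.lTensor C ρ) =
        fun i => (θ i).lTensor C ρ := by
    intro ρ
    induction ρ using TensorProduct.induction_on with
    | zero =>
      funext i
      simp
    | tmul c b =>
      rw [LinearMap.lTensor_tmul, TensorProduct.piRight_apply, TensorProduct.piRightHom_tmul]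
      funext i
      rw [LinearMap.lTensor_tmul]
      rfl
    | add x y hx hy =>
      rw [map_add, map_add, hx, hy]
      funext i
      simp
  apply (TensorProduct.piRight D D C (fun _ : Fin r => D)).injective
  rw [key, map_zero]
  funext i
  exact hρ i

section Gen

variable (D C : Type u) [CommRing D] [HenselianLocalRing D] [IsNoetherianRing D]
  [CommRing C] [IsLocalRing C] [IsNoetherianRing C] [Algebra D C] [Module.Flat D C]
  [IsLocalHom (algebraMap D C)]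

theorem map_maximalIdeal_eq'
    (hsurj : ∀ (n : ℕ) (c : C), ∃ d : D,
      c - algebraMap D C d ∈ ((maximalIdeal D) ^ n).map (algebraMap D C)) :
    (maximalIdeal D).map (algebraMap D C) = maximalIdeal C := by
  apply le_antisymm (Groth.Agent.Helper8.DimOneUB.map_maximalIdeal_le D C)
  intro c hc
  obtain ⟨d, hd⟩ := hsurj 1 c
  rw [pow_one] at hd
  have h1 : algebraMap D C d ∈ maximalIdeal C := by
    have e : algebraMap D C d = c - (c - algebraMap D C d) := by ring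
    rw [e]
    exact Ideal.sub_mem _ hc (Groth.Agent.Helper8.DimOneUB.map_maximalIdeal_le D C hd)
  have h2 : d ∈ maximalIdeal D := by
    rw [IsLocalRing.mem_maximalIdeal, mem_nonunits_iff]
    intro hu
    exact (IsLocalRing.mem_maximalIdeal _).mp h1 (hu.map _)
  have e : c = algebraMap D C d + (c - algebraMap D C d) := by ring
  rw [e]
  exact Ideal.add_mem _ (Ideal.mem_map_of_mem _ h2) hd

/-- `exists_decomp` without the domain hypothesis. -/
theorem exists_decomp'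
    (hsurj : ∀ (n : ℕ) (c : C), ∃ d : D,
      c - algebraMap D C d ∈ ((maximalIdeal D) ^ n).map (algebraMap D C))
    (𝔠 : Ideal D) (L : ℕ) (hL : (maximalIdeal D) ^ L ≤ 𝔠) (β : 𝔠 →ₗ[D] C) :
    ∃ (c₀ : C) (γ : 𝔠 →ₗ[D] D), ∀ z : 𝔠,
      β z = c₀ * algebraMap D C z.1 + algebraMap D C (γ z) := by
  classical
  have habs : ∀ (c : C) (γ : 𝔠 →ₗ[D] D), ∃ (c₀ : C) (γ₀ : 𝔠 →ₗ[D] D), ∀ z : 𝔠,
      c * algebraMap D C (γ z) = c₀ * algebraMap D C z.1 + algebraMap D C (γ₀ z) := by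
    intro c γ
    obtain ⟨d, hd⟩ := hsurj L c
    have hmem : c - algebraMap D C d ∈ 𝔠.map (algebraMap D C) := Ideal.map_mono hL hd
    let T : Ideal C :=
      { carrier := {h | ∃ c₀ : C, ∀ z : 𝔠,
          h * algebraMap D C (γ z) = c₀ * algebraMap D C z.1}
        add_mem' := by
          rintro x y ⟨c₁, h₁⟩ ⟨c₂, h₂⟩
          exact ⟨c₁ + c₂, fun z => by rw [add_mul, add_mul, h₁, h₂]⟩
        zero_mem' := ⟨0, fun z => by rw [zero_mul, zero_mul]⟩
        smul_mem' := by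
          rintro t x ⟨c₁, h₁⟩
          exact ⟨t * c₁, fun z => by rw [smul_eq_mul, mul_assoc, h₁, mul_assoc]⟩ }
    have hT : 𝔠.map (algebraMap D C) ≤ T := by
      rw [Ideal.map_le_iff_le_comap]
      intro w hw
      show ∃ c₀ : C, ∀ z : 𝔠,
        algebraMap D C w * algebraMap D C (γ z) = c₀ * algebraMap D C z.1
      refine ⟨algebraMap D C (γ ⟨w, hw⟩), fun z => ?_⟩
      rw [← map_mul, ← map_mul]
      congr 1
      have h1 : γ (w • z) = w * γ z := by rw [map_smul, smul_eq_mul]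
      have h2 : γ (z.1 • (⟨w, hw⟩ : 𝔠)) = z.1 * γ ⟨w, hw⟩ := by rw [map_smul, smul_eq_mul]
      have h3 : w • z = z.1 • (⟨w, hw⟩ : 𝔠) := by
        apply Subtype.ext
        rw [Submodule.coe_smul, Submodule.coe_smul, smul_eq_mul, smul_eq_mul]
        exact mul_comm _ _
      rw [← h1, h3, h2]
      exact mul_comm _ _
    obtain ⟨c₀, hc₀⟩ := hT hmem
    refine ⟨c₀, d • γ, fun z => ?_⟩
    have e : c * algebraMap D C (γ z) = algebraMap D C d * algebraMap D C (γ z) +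
        (c - algebraMap D C d) * algebraMap D C (γ z) := by ring
    rw [e, hc₀ z, LinearMap.smul_apply, smul_eq_mul, map_mul]
    ring
  haveI : Module.Finite D 𝔠 := Module.Finite.iff_fg.mpr (IsNoetherian.noetherian 𝔠)
  obtain ⟨r, π, hπ⟩ := Module.Finite.exists_fin' D 𝔠
  haveI : Module.Finite D (LinearMap.ker π) :=
    Module.Finite.iff_fg.mpr (IsNoetherian.noetherian _)
  have hcomp : (β ∘ₗ π) ∘ₗ (LinearMap.ker π).subtype = 0 := by
    apply LinearMap.ext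
    intro v
    have hv : π v.1 = 0 := LinearMap.mem_ker.mp v.2
    show β (π v.1) = 0
    rw [hv, map_zero]
  obtain ⟨k, α, η, hxy, hαf⟩ := Module.Flat.exists_factorization_of_comp_eq_zero_of_free hcomp
  have hle : LinearMap.ker π ≤ LinearMap.ker α := by
    intro v hv
    rw [LinearMap.mem_ker]
    exact LinearMap.congr_fun hαf ⟨v, hv⟩
  let γ' : 𝔠 →ₗ[D] (Fin k →₀ D) :=
    ((LinearMap.ker π).liftQ α hle) ∘ₗ (LinearMap.quotKerEquivOfSurjective π hπ).symm.toLinearMap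
  have hγ' : ∀ v, γ' (π v) = α v := by
    intro v
    have h1 : (LinearMap.quotKerEquivOfSurjective π hπ).symm (π v) =
        Submodule.Quotient.mk v := by
      rw [LinearEquiv.symm_apply_eq, LinearMap.quotKerEquivOfSurjective_apply_mk]
    show ((LinearMap.ker π).liftQ α hle)
      ((LinearMap.quotKerEquivOfSurjective π hπ).symm (π v)) = α v
    rw [h1, Submodule.liftQ_apply]
  have hβη : ∀ z : 𝔠, β z = η (γ' z) := by
    intro z
    obtain ⟨v, rfl⟩ := hπ z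
    rw [hγ']
    exact LinearMap.congr_fun hxy v
  have hη : ∀ w : Fin k →₀ D, η w = ∑ j, w j • η (Finsupp.single j 1) := by
    intro w
    conv_lhs => rw [← Finsupp.univ_sum_single w]
    rw [map_sum]
    refine Finset.sum_congr rfl fun j _ => ?_
    rw [← Finsupp.smul_single_one j (w j), map_smul]
  choose c₀f γ₀f hf using fun j : Fin k =>
    habs (η (Finsupp.single j 1)) ((Finsupp.lapply j : (Fin k →₀ D) →ₗ[D] D) ∘ₗ γ')
  refine ⟨∑ j, c₀f j, ∑ j, γ₀f j, fun z => ?_⟩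
  rw [hβη, hη, Finset.sum_mul, LinearMap.sum_apply, map_sum, ← Finset.sum_add_distrib]
  refine Finset.sum_congr rfl fun j _ => ?_
  have := hf j z
  rw [LinearMap.comp_apply, Finsupp.lapply_apply] at this
  rw [Algebra.smul_def, mul_comm]
  exact this

omit [HenselianLocalRing D] [IsLocalRing C] [Module.Flat D C] [IsLocalHom (algebraMap D C)]
  [IsNoetherianRing C] [CommRing C] [Algebra D C] in
/-- A commutative finite algebra generated by an endomorphism of an ideal. -/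
theorem exists_comm_algebra (𝔠 : Ideal D) (g : Module.End D 𝔠) :
    ∃ (B₀ : Type u) (_ : CommRing B₀) (_ : Algebra D B₀) (_ : Module.Finite D B₀)
      (φ : B₀ →ₐ[D] Module.End D 𝔠) (κ' : B₀), Function.Injective φ ∧ φ κ' = g := by
  haveI : Module.Finite D 𝔠 := Module.Finite.iff_fg.mpr (IsNoetherian.noetherian 𝔠)
  haveI : IsNoetherian D (Module.End D 𝔠) := isNoetherian_linearMap D 𝔠 𝔠
  have hinj : Function.Injective
      (Ideal.kerLiftAlg (Polynomial.aeval g : D[X] →ₐ[D] Module.End D 𝔠)) :=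
    Ideal.kerLiftAlg_injective _
  refine ⟨D[X] ⧸ RingHom.ker (Polynomial.aeval g : D[X] →ₐ[D] Module.End D 𝔠), inferInstance,
    inferInstance, ?_, Ideal.kerLiftAlg (Polynomial.aeval g : D[X] →ₐ[D] Module.End D 𝔠),
    Ideal.Quotient.mk _ X, hinj, ?_⟩
  · exact Module.Finite.of_injective
      (Ideal.kerLiftAlg (Polynomial.aeval g : D[X] →ₐ[D] Module.End D 𝔠)).toLinearMap hinj
  · show (Polynomial.aeval g : D[X] →ₐ[D] Module.End D 𝔠) X = g
    exact Polynomial.aeval_X g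

/-- The abstract idempotent-lifting step. -/
theorem exists_idem_eval
    (hsurj : ∀ (n : ℕ) (c : C), ∃ d : D,
      c - algebraMap D C d ∈ ((maximalIdeal D) ^ n).map (algebraMap D C))
    (𝔠 : Ideal D) (c₀ : C)
    (B₀ : Type u) [CommRing B₀] [Algebra D B₀] [Module.Finite D B₀]
    (θ : 𝔠 → (B₀ →ₗ[D] D)) (κ' : B₀) (r : ℕ) (zs : Fin r → 𝔠)
    (hzs : ∀ b : B₀, (∀ i, θ (zs i) b = 0) → b = 0)
    (hθ1 : ∀ z : 𝔠, θ z 1 = z.1)
    (β : 𝔠 → C)
    (hβ : ∀ z : 𝔠, β z = c₀ * algebraMap D C z.1 + algebraMap D C (θ z κ'))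
    (hidem : ∀ z : 𝔠, β z = c₀ * (c₀ * algebraMap D C z.1 + algebraMap D C (θ z κ')) +
      (c₀ * algebraMap D C (θ z κ') + algebraMap D C (θ z (κ' * κ')))) :
    ∃ e₀ : B₀, ∀ z : 𝔠, β z = algebraMap D C (θ z e₀) := by
  classical
  haveI : Module.FaithfullyFlat D C := Module.FaithfullyFlat.of_flat_of_isLocalHom
  have hmap := map_maximalIdeal_eq' D C hsurj
  have hev : ∀ (z : 𝔠) (c : C) (b : B₀),
      (TensorProduct.rid D C) ((θ z).lTensor C (c ⊗ₜ[D] b)) = algebraMap D C (θ z b) * c := by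
    intro z c b
    rw [LinearMap.lTensor_tmul, TensorProduct.rid_tmul, Algebra.smul_def]
  obtain ⟨ε, hεdef⟩ : ∃ e : C ⊗[D] B₀, e = c₀ ⊗ₜ[D] (1 : B₀) + (1 : C) ⊗ₜ[D] κ' := ⟨_, rfl⟩
  have hevε : ∀ z : 𝔠, (TensorProduct.rid D C) ((θ z).lTensor C ε) = β z := by
    intro z
    rw [hεdef, map_add, map_add, hev, hev, hθ1, hβ z]
    ring
  have hεε : ε * ε = (c₀ * c₀) ⊗ₜ[D] (1 : B₀) + (c₀ ⊗ₜ[D] κ' + c₀ ⊗ₜ[D] κ') +
      (1 : C) ⊗ₜ[D] (κ' * κ') := by
    rw [hεdef, add_mul, mul_add, mul_add, Algebra.TensorProduct.tmul_mul_tmul,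
      Algebra.TensorProduct.tmul_mul_tmul, Algebra.TensorProduct.tmul_mul_tmul,
      Algebra.TensorProduct.tmul_mul_tmul]
    simp only [mul_one, one_mul]
    abel
  have hevεε : ∀ z : 𝔠, (TensorProduct.rid D C) ((θ z).lTensor C (ε * ε)) = β z := by
    intro z
    rw [hεε]
    simp only [map_add, hev, hθ1]
    rw [hidem z]
    ring
  have hε_idem : ε * ε = ε := by
    rw [← sub_eq_zero]
    apply eq_zero_of_lTensor_eq_zero r (fun i => θ (zs i)) hzs
    intro i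
    apply (TensorProduct.rid D C).injective
    rw [map_sub, map_sub, hevεε, hevε, sub_self, map_zero]
  -- approximate `c₀`
  obtain ⟨d₀, hd₀⟩ := hsurj 1 c₀
  rw [pow_one, hmap] at hd₀
  obtain ⟨h, hhdef⟩ : ∃ x : C, x = c₀ - algebraMap D C d₀ := ⟨_, rfl⟩
  rw [← hhdef] at hd₀
  have hswap : ∀ d : D, (1 : C) ⊗ₜ[D] (algebraMap D B₀ d) = (algebraMap D C d) ⊗ₜ[D] (1 : B₀) := by
    intro d
    rw [Algebra.algebraMap_eq_smul_one, Algebra.algebraMap_eq_smul_one, TensorProduct.tmul_smul,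
      TensorProduct.smul_tmul']
  obtain ⟨u, hudef⟩ : ∃ x : B₀, x = algebraMap D B₀ d₀ + κ' := ⟨_, rfl⟩
  have hεu : ε = (1 : C) ⊗ₜ[D] u + h ⊗ₜ[D] (1 : B₀) := by
    rw [hεdef, hudef, hhdef, TensorProduct.tmul_add, hswap, TensorProduct.sub_tmul]
    abel
  obtain ⟨𝔐, h𝔐⟩ : ∃ I : Ideal B₀, I = (maximalIdeal D).map (algebraMap D B₀) := ⟨_, rfl⟩
  have hq0 : ∀ (μ : D), μ ∈ maximalIdeal D → ∀ b : B₀,
      (𝔐.restrictScalars D).mkQ (μ • b) = 0 := by
    intro μ hμ b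
    rw [Submodule.mkQ_apply, Submodule.Quotient.mk_eq_zero]
    show μ • b ∈ 𝔐
    rw [h𝔐, Algebra.smul_def]
    exact Ideal.mul_mem_right _ _ (Ideal.mem_map_of_mem _ hμ)
  have hkill : ∀ h' ∈ maximalIdeal C, ∀ b : B₀,
      h' ⊗ₜ[D] ((𝔐.restrictScalars D).mkQ b) =
        (0 : C ⊗[D] (B₀ ⧸ (𝔐.restrictScalars D))) := by
    intro h' hh'
    rw [← hmap] at hh'
    let T : Ideal C :=
      { carrier := {x | ∀ b : B₀, x ⊗ₜ[D] ((𝔐.restrictScalars D).mkQ b) =
          (0 : C ⊗[D] (B₀ ⧸ (𝔐.restrictScalars D)))}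
        add_mem' := by
          intro x y hx hy b
          rw [TensorProduct.add_tmul, hx, hy, add_zero]
        zero_mem' := by
          intro b
          rw [TensorProduct.zero_tmul]
        smul_mem' := by
          intro t x hx b
          rw [← TensorProduct.smul_tmul', hx b, smul_zero] }
    have hT : (maximalIdeal D).map (algebraMap D C) ≤ T := by
      rw [Ideal.map_le_iff_le_comap]
      intro μ hμ b
      show (algebraMap D C μ) ⊗ₜ[D] ((𝔐.restrictScalars D).mkQ b) = 0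
      rw [Algebra.algebraMap_eq_smul_one, TensorProduct.smul_tmul, ← map_smul, hq0 μ hμ,
        TensorProduct.tmul_zero]
    exact hT hh'
  have hTq1 : ∀ b : B₀, ((𝔐.restrictScalars D).mkQ).lTensor C ((1 : C) ⊗ₜ[D] b) =
      (1 : C) ⊗ₜ[D] ((𝔐.restrictScalars D).mkQ b) := fun b => LinearMap.lTensor_tmul _ _ _ _
  have hTqh : ∀ h' ∈ maximalIdeal C, ∀ b : B₀,
      ((𝔐.restrictScalars D).mkQ).lTensor C (h' ⊗ₜ[D] b) = 0 := fun h' hh' b => by
    rw [LinearMap.lTensor_tmul, hkill h' hh' b]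
  have hεε2 : ε * ε = (1 : C) ⊗ₜ[D] (u * u) + (h ⊗ₜ[D] u + h ⊗ₜ[D] u) +
      (h * h) ⊗ₜ[D] (1 : B₀) := by
    rw [hεu, add_mul, mul_add, mul_add, Algebra.TensorProduct.tmul_mul_tmul,
      Algebra.TensorProduct.tmul_mul_tmul, Algebra.TensorProduct.tmul_mul_tmul,
      Algebra.TensorProduct.tmul_mul_tmul]
    simp only [mul_one, one_mul]
    abel
  have hu𝔐 : u * u - u ∈ 𝔐 := by
    have e1 : ((𝔐.restrictScalars D).mkQ).lTensor C (ε * ε) =
        (1 : C) ⊗ₜ[D] ((𝔐.restrictScalars D).mkQ (u * u)) := by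
      rw [hεε2, map_add, map_add, map_add, hTq1, hTqh h hd₀,
        hTqh (h * h) (Ideal.mul_mem_left _ _ hd₀)]
      simp only [add_zero]
    have e2 : ((𝔐.restrictScalars D).mkQ).lTensor C ε =
        (1 : C) ⊗ₜ[D] ((𝔐.restrictScalars D).mkQ u) := by
      rw [hεu, map_add, hTq1, hTqh h hd₀, add_zero]
    have e3 : (1 : C) ⊗ₜ[D] ((𝔐.restrictScalars D).mkQ (u * u - u)) = 0 := by
      rw [map_sub, TensorProduct.tmul_sub, ← e1, ← e2, hε_idem, sub_self]
    have hinj := Module.FaithfullyFlat.tensorProduct_mk_injective (A := D) (B := C)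
      (B₀ ⧸ (𝔐.restrictScalars D))
    have e4 : (𝔐.restrictScalars D).mkQ (u * u - u) = 0 := by
      apply hinj
      rw [map_zero]
      exact e3
    rw [Submodule.mkQ_apply, Submodule.Quotient.mk_eq_zero] at e4
    exact e4
  haveI : Algebra.IsIntegral D B₀ := Algebra.IsIntegral.of_finite D B₀
  have hG := Groth.Agent.Helper7.Hensel.Gabber.of_henselianLocalRing D
  have hebar : IsIdempotentElem
      (Ideal.Quotient.mk ((maximalIdeal D).map (algebraMap D B₀)) u) := by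
    show _ * _ = _
    rw [← map_mul, Ideal.Quotient.eq, ← h𝔐]
    exact hu𝔐
  obtain ⟨e₀, he₀, he₀u⟩ := hG.exists_idempotent_lift _ hebar
  have he₀u' : e₀ - u ∈ 𝔐 := by
    rw [h𝔐]
    exact Ideal.Quotient.eq.mp he₀u
  haveI : Algebra.IsIntegral C (C ⊗[D] B₀) := Algebra.IsIntegral.of_finite C _
  have hjac : (maximalIdeal C).map (algebraMap C (C ⊗[D] B₀)) ≤ Ideal.jacobson ⊥ :=
    Groth.Agent.Helper7.Hensel.map_le_jacobson_of_isIntegral
      (IsLocalRing.maximalIdeal_le_jacobson ⊥)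
  have hmemC : ∀ c ∈ maximalIdeal C,
      c ⊗ₜ[D] (1 : B₀) ∈ (maximalIdeal C).map (algebraMap C (C ⊗[D] B₀)) := by
    intro c hc
    have e : c ⊗ₜ[D] (1 : B₀) = algebraMap C (C ⊗[D] B₀) c := by
      rw [Algebra.TensorProduct.algebraMap_apply]
      rfl
    rw [e]
    exact Ideal.mem_map_of_mem _ hc
  have hmemB : ∀ b ∈ 𝔐,
      (1 : C) ⊗ₜ[D] b ∈ (maximalIdeal C).map (algebraMap C (C ⊗[D] B₀)) := by
    intro b hb
    have hle : 𝔐 ≤ ((maximalIdeal C).map (algebraMap C (C ⊗[D] B₀))).comap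
        (Algebra.TensorProduct.includeRight : B₀ →ₐ[D] C ⊗[D] B₀).toRingHom := by
      rw [h𝔐, Ideal.map_le_iff_le_comap]
      intro μ hμ
      rw [Ideal.mem_comap, Ideal.mem_comap]
      show (1 : C) ⊗ₜ[D] (algebraMap D B₀ μ) ∈ _
      rw [hswap]
      apply hmemC
      rw [← hmap]
      exact Ideal.mem_map_of_mem _ hμ
    exact hle hb
  have hε1e : ε = (1 : C) ⊗ₜ[D] e₀ := by
    apply Groth.Agent.Helper7.Hensel.idempotent_eq_of_sub_mem_jacobson hε_idem
    · show _ * _ = _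
      rw [Algebra.TensorProduct.tmul_mul_tmul, one_mul, he₀.eq]
    · apply hjac
      have e : ε - (1 : C) ⊗ₜ[D] e₀ = (1 : C) ⊗ₜ[D] (u - e₀) + h ⊗ₜ[D] (1 : B₀) := by
        rw [hεu, TensorProduct.tmul_sub]
        abel
      rw [e]
      refine Ideal.add_mem _ (hmemB _ ?_) (hmemC h hd₀)
      have e' : u - e₀ = -(e₀ - u) := by ring
      rw [e']
      exact 𝔐.neg_mem he₀u'
  refine ⟨e₀, fun z => ?_⟩
  rw [← hevε z, hε1e, hev, mul_one]

/-- **Descent of decompositions.** -/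
theorem exists_comap_decomp
    (hsurj : ∀ (n : ℕ) (c : C), ∃ d : D,
      c - algebraMap D C d ∈ ((maximalIdeal D) ^ n).map (algebraMap D C))
    (𝔟₁ 𝔟₂ : Ideal C) (hinf : 𝔟₁ ⊓ 𝔟₂ = ⊥) (L : ℕ) (hL : maximalIdeal C ^ L ≤ 𝔟₁ ⊔ 𝔟₂)
    (z : D) (hz : algebraMap D C z ∈ 𝔟₁ ⊔ 𝔟₂) :
    ∃ x : D, algebraMap D C x ∈ 𝔟₂ ∧ algebraMap D C (z - x) ∈ 𝔟₁ := by
  classical
  have hmap : (maximalIdeal D).map (algebraMap D C) = maximalIdeal C :=
    map_maximalIdeal_eq' D C hsurj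
  have hmapL : ((maximalIdeal D) ^ L).map (algebraMap D C) = maximalIdeal C ^ L := by
    rw [Ideal.map_pow, hmap]
  obtain ⟨𝔠, h𝔠⟩ : ∃ I : Ideal D, I = (𝔟₁ ⊔ 𝔟₂).comap (algebraMap D C) := ⟨_, rfl⟩
  have hmem𝔠 : ∀ w : D, w ∈ 𝔠 ↔ algebraMap D C w ∈ 𝔟₁ ⊔ 𝔟₂ := by
    intro w
    rw [h𝔠, Ideal.mem_comap]
  have hmL𝔠 : (maximalIdeal D) ^ L ≤ 𝔠 := by
    rw [h𝔠, ← Ideal.map_le_iff_le_comap, hmapL]
    exact hL
  have hex : ∀ x : ↥(𝔟₁ ⊔ 𝔟₂), ∃ b₂ : C, b₂ ∈ 𝔟₂ ∧ x.1 - b₂ ∈ 𝔟₁ := by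
    intro x
    obtain ⟨b₁, hb₁, b₂, hb₂, hsum⟩ := Submodule.mem_sup.mp x.2
    exact ⟨b₂, hb₂, by rw [← hsum, add_sub_cancel_right]; exact hb₁⟩
  have huniq : ∀ (x b b' : C), b ∈ 𝔟₂ → x - b ∈ 𝔟₁ → b' ∈ 𝔟₂ → x - b' ∈ 𝔟₁ → b = b' := by
    intro x b b' hb hxb hb' hxb'
    have h1 : b - b' ∈ 𝔟₁ ⊓ 𝔟₂ := by
      refine ⟨?_, 𝔟₂.sub_mem hb hb'⟩
      have e : b - b' = (x - b') - (x - b) := by ring
      rw [e]
      exact 𝔟₁.sub_mem hxb' hxb
    rw [hinf, Ideal.mem_bot] at h1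
    exact sub_eq_zero.mp h1
  choose pr hpr using hex
  have hchar : ∀ (x : ↥(𝔟₁ ⊔ 𝔟₂)) (b : C), b ∈ 𝔟₂ → x.1 - b ∈ 𝔟₁ → pr x = b :=
    fun x b hb hxb => huniq x.1 _ _ (hpr x).1 (hpr x).2 hb hxb
  let β : 𝔠 →ₗ[D] C :=
    { toFun := fun y => pr ⟨algebraMap D C y.1, (hmem𝔠 y.1).mp y.2⟩
      map_add' := fun y w => by
        apply hchar
        · exact 𝔟₂.add_mem (hpr _).1 (hpr _).1
        · have e : algebraMap D C (y + w : 𝔠).1 -
              (pr ⟨algebraMap D C y.1, (hmem𝔠 y.1).mp y.2⟩ +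
                pr ⟨algebraMap D C w.1, (hmem𝔠 w.1).mp w.2⟩) =
              (algebraMap D C y.1 - pr ⟨algebraMap D C y.1, (hmem𝔠 y.1).mp y.2⟩) +
              (algebraMap D C w.1 - pr ⟨algebraMap D C w.1, (hmem𝔠 w.1).mp w.2⟩) := by
            rw [Submodule.coe_add, map_add]
            ring
          show algebraMap D C (y + w : 𝔠).1 - _ ∈ 𝔟₁
          rw [e]
          exact 𝔟₁.add_mem (hpr ⟨algebraMap D C y.1, (hmem𝔠 y.1).mp y.2⟩).2
            (hpr ⟨algebraMap D C w.1, (hmem𝔠 w.1).mp w.2⟩).2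
      map_smul' := fun d y => by
        apply hchar
        · rw [RingHom.id_apply, Algebra.smul_def]
          exact 𝔟₂.mul_mem_left _ (hpr _).1
        · have e : algebraMap D C (d • y : 𝔠).1 -
              (RingHom.id D d) • pr ⟨algebraMap D C y.1, (hmem𝔠 y.1).mp y.2⟩ =
              algebraMap D C d *
                (algebraMap D C y.1 - pr ⟨algebraMap D C y.1, (hmem𝔠 y.1).mp y.2⟩) := by
            rw [RingHom.id_apply, Algebra.smul_def, Submodule.coe_smul, smul_eq_mul, map_mul]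
            ring
          show algebraMap D C (d • y : 𝔠).1 - _ ∈ 𝔟₁
          rw [e]
          exact 𝔟₁.mul_mem_left _ (hpr ⟨algebraMap D C y.1, (hmem𝔠 y.1).mp y.2⟩).2 }
  have hβ : ∀ y : 𝔠, β y ∈ 𝔟₂ ∧ algebraMap D C y.1 - β y ∈ 𝔟₁ := fun y => hpr _
  obtain ⟨c₀, γ, hdecomp⟩ := exists_decomp' D C hsurj 𝔠 L hmL𝔠 β
  have hγ𝔠 : ∀ w : 𝔠, γ w ∈ 𝔠 := by
    intro w
    rw [hmem𝔠]
    have e : algebraMap D C (γ w) = β w - c₀ * algebraMap D C w.1 := by
      rw [hdecomp w]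
      ring
    rw [e]
    exact Ideal.sub_mem _ (Ideal.mem_sup_right (hβ w).1)
      (Ideal.mul_mem_left _ _ ((hmem𝔠 w.1).mp w.2))
  obtain ⟨g, hg⟩ : ∃ g : Module.End D 𝔠, ∀ w : 𝔠, (g w).1 = γ w :=
    ⟨γ.codRestrict 𝔠 hγ𝔠, fun w => rfl⟩
  -- the key identity
  have hkey : ∀ w : 𝔠, β w = c₀ * β w + β (g w) := by
    intro w
    have hsup : β w ∈ 𝔟₁ ⊔ 𝔟₂ := Ideal.mem_sup_right (hβ w).1
    have h1 : pr ⟨β w, hsup⟩ = β w := by
      apply hchar
      · exact (hβ w).1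
      · show β w - β w ∈ 𝔟₁
        rw [sub_self]
        exact 𝔟₁.zero_mem
    have h2 : pr ⟨β w, hsup⟩ = c₀ * β w + β (g w) := by
      apply hchar
      · exact 𝔟₂.add_mem (𝔟₂.mul_mem_left _ (hβ w).1) (hβ (g w)).1
      · show β w - (c₀ * β w + β (g w)) ∈ 𝔟₁
        have e : β w - (c₀ * β w + β (g w)) =
            c₀ * (algebraMap D C w.1 - β w) + (algebraMap D C (g w).1 - β (g w)) := by
          rw [hg w]
          linear_combination hdecomp w
        rw [e]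
        exact 𝔟₁.add_mem (𝔟₁.mul_mem_left _ (hβ w).2) (hβ (g w)).2
    rw [← h1]
    conv_lhs => rw [h2]
    rw [h1]
  -- the commutative algebra
  obtain ⟨B₀, _, _, _, φ, κ', hφinj, hφκ⟩ := exists_comm_algebra D 𝔠 g
  haveI : Module.Finite D 𝔠 := Module.Finite.iff_fg.mpr (IsNoetherian.noetherian 𝔠)
  obtain ⟨r, π, hπ⟩ := Module.Finite.exists_fin' D 𝔠
  let θ : 𝔠 → (B₀ →ₗ[D] D) := fun w =>
    (𝔠.subtype : 𝔠 →ₗ[D] D) ∘ₗ (LinearMap.applyₗ w : (𝔠 →ₗ[D] 𝔠) →ₗ[D] 𝔠) ∘ₗ φ.toLinearMap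
  have hθ : ∀ (w : 𝔠) (b : B₀), θ w b = ((φ b) w).1 := fun w b => rfl
  have hzs : ∀ b : B₀, (∀ i, θ (π (Pi.single i 1)) b = 0) → b = 0 := by
    intro b hb
    apply hφinj
    rw [map_zero]
    have h1 : (φ b) ∘ₗ π = 0 := by
      apply LinearMap.pi_ext'
      intro i
      apply LinearMap.ext_ring
      show (φ b) (π (Pi.single i 1)) = 0
      apply Subtype.ext
      have := hb i
      rw [hθ] at this
      exact this
    apply LinearMap.ext
    intro w
    obtain ⟨v, rfl⟩ := hπ w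
    exact LinearMap.congr_fun h1 v
  have hθ1 : ∀ w : 𝔠, θ w 1 = w.1 := by
    intro w
    rw [hθ, map_one]
    rfl
  have hθκ : ∀ w : 𝔠, θ w κ' = γ w := by
    intro w
    rw [hθ, hφκ, hg]
  have hθκκ : ∀ w : 𝔠, θ w (κ' * κ') = γ (g w) := by
    intro w
    rw [hθ, map_mul, hφκ]
    show (g (g w)).1 = γ (g w)
    rw [hg]
  obtain ⟨e₀, he₀⟩ := exists_idem_eval D C hsurj 𝔠 c₀ B₀ θ κ' r (fun i => π (Pi.single i 1)) hzs hθ1
    (fun w => β w)
    (fun w => by rw [hθκ]; exact hdecomp w)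
    (fun w => by
      rw [hθκ, hθκκ]
      have h1 := hkey w
      have h2 := hdecomp (g w)
      rw [hg w] at h2
      conv_lhs => rw [h1, h2]
      rw [hdecomp w])
  refine ⟨θ ⟨z, (hmem𝔠 z).mpr hz⟩ e₀, ?_, ?_⟩
  · rw [← he₀]
    exact (hβ _).1
  · rw [map_sub, ← he₀]
    exact (hβ ⟨z, (hmem𝔠 z).mpr hz⟩).2

end Gen

end Groth.Agent.Helper7.DimOneComp
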