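import Mathlib
import Groth.Prelude
import Groth.Agent.Lib.Helper7.DimOneComp.Desc

set_option linter.style.haveILetI false
set_option linter.unusedVariables false
set_option linter.unusedSectionVars false
set_option linter.overlappingInstances false
set_option autoImplicit false
set_option backward.isDefEq.respectTransparency.types false
set_option backward.isDefEq.respectTransparency false
set_option synthInstance.maxHeartbeats 400000
set_option maxHeartbeats 1600000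

/-!
# helper7: the punctured spectrum of a formally isomorphic flat extension of a henselian local
ring is preconnected iff that of the ring is
-/

universe u

namespace Groth.Agent.Helper7.DimOneComp

open IsLocalRing TensorProduct

section Conn

variable (D C : Type u) [CommRing D] [HenselianLocalRing D] [IsNoetherianRing D]
  [CommRing C] [IsLocalRing C] [IsNoetherianRing C] [Algebra D C] [Module.Flat D C]
  [IsLocalHom (algebraMap D C)]

theorem comap_ne_closedPoint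
    (hsurj : ∀ (n : ℕ) (c : C), ∃ d : D,
      c - algebraMap D C d ∈ ((maximalIdeal D) ^ n).map (algebraMap D C))
    (P : PrimeSpectrum C) (hP : P ≠ closedPoint C) :
    PrimeSpectrum.comap (algebraMap D C) P ≠ closedPoint D := by
  intro h
  apply hP
  have hmap := map_maximalIdeal_eq' D C hsurj
  have h1 : (maximalIdeal D).map (algebraMap D C) ≤ P.asIdeal := by
    rw [Ideal.map_le_iff_le_comap]
    have h2 : (PrimeSpectrum.comap (algebraMap D C) P).asIdeal = maximalIdeal D := by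
      rw [h]
      rfl
    exact le_of_eq (h2.symm.trans rfl)
  rw [hmap] at h1
  apply PrimeSpectrum.ext
  exact ((maximalIdeal.isMaximal C).eq_of_le P.2.ne_top h1).symm

theorem isPreconnected_iff
    (hsurj : ∀ (n : ℕ) (c : C), ∃ d : D,
      c - algebraMap D C d ∈ ((maximalIdeal D) ^ n).map (algebraMap D C)) :
    IsPreconnected ({closedPoint C}ᶜ : Set (PrimeSpectrum C)) ↔
      IsPreconnected ({closedPoint D}ᶜ : Set (PrimeSpectrum D)) := by
  classical
  haveI : Module.FaithfullyFlat D C := Module.FaithfullyFlat.of_flat_of_isLocalHom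
  have hmap := map_maximalIdeal_eq' D C hsurj
  constructor
  · intro hC
    have himg : ({closedPoint D}ᶜ : Set (PrimeSpectrum D)) =
        (PrimeSpectrum.comap (algebraMap D C)) '' ({closedPoint C}ᶜ : Set (PrimeSpectrum C)) := by
      ext p
      constructor
      · intro hp
        obtain ⟨P, rfl⟩ := PrimeSpectrum.comap_surjective_of_faithfullyFlat (A := D) (B := C) p
        refine ⟨P, ?_, rfl⟩
        intro hP
        apply hp
        rw [Set.mem_singleton_iff] at hP ⊢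
        rw [hP]
        exact IsLocalRing.comap_closedPoint (algebraMap D C)
      · rintro ⟨P, hP, rfl⟩
        exact comap_ne_closedPoint D C hsurj P hP
    rw [himg]
    exact hC.image _ (PrimeSpectrum.continuous_comap (algebraMap D C)).continuousOn
  · intro hD u v hu hv hcov hnu hnv
    by_contra hempty
    rw [Set.not_nonempty_iff_eq_empty] at hempty
    obtain ⟨su, hsu⟩ := (PrimeSpectrum.isOpen_iff u).mp hu
    obtain ⟨sv, hsv⟩ := (PrimeSpectrum.isOpen_iff v).mp hv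
    obtain ⟨Ju, hJu⟩ : ∃ J : Ideal C, J = Ideal.span su := ⟨_, rfl⟩
    obtain ⟨Jv, hJv⟩ : ∃ J : Ideal C, J = Ideal.span sv := ⟨_, rfl⟩
    have hmemu : ∀ P : PrimeSpectrum C, P ∈ u ↔ ¬ Ju ≤ P.asIdeal := by
      intro P
      rw [hJu, Ideal.span_le, ← PrimeSpectrum.mem_zeroLocus, ← hsu, Set.mem_compl_iff, not_not]
    have hmemv : ∀ P : PrimeSpectrum C, P ∈ v ↔ ¬ Jv ≤ P.asIdeal := by
      intro P
      rw [hJv, Ideal.span_le, ← PrimeSpectrum.mem_zeroLocus, ← hsv, Set.mem_compl_iff, not_not]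
    have hnotboth : ∀ P : PrimeSpectrum C, P ≠ closedPoint C →
        ¬ (Ju ≤ P.asIdeal ∧ Jv ≤ P.asIdeal) := by
      rintro P hP ⟨h1, h2⟩
      rcases hcov (show P ∈ ({closedPoint C}ᶜ : Set (PrimeSpectrum C)) from hP) with h | h
      · exact (hmemu P).mp h h1
      · exact (hmemv P).mp h h2
    have hone : ∀ P : PrimeSpectrum C, P ≠ closedPoint C →
        Ju ≤ P.asIdeal ∨ Jv ≤ P.asIdeal := by
      intro P hP
      by_contra hcon
      rw [not_or] at hcon
      have hmem : P ∈ ({closedPoint C}ᶜ : Set (PrimeSpectrum C)) ∩ (u ∩ v) :=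
        ⟨hP, (hmemu P).mpr hcon.1, (hmemv P).mpr hcon.2⟩
      rw [hempty] at hmem
      exact hmem
    obtain ⟨P₁, hP₁, hP₁u⟩ := hnu
    obtain ⟨P₂, hP₂, hP₂v⟩ := hnv
    have hP₁n : P₁ ≠ closedPoint C := hP₁
    have hP₂n : P₂ ≠ closedPoint C := hP₂
    have hP₁' : ¬ Ju ≤ P₁.asIdeal := (hmemu P₁).mp hP₁u
    have hP₂' : ¬ Jv ≤ P₂.asIdeal := (hmemv P₂).mp hP₂v
    have hJvP₁ : Jv ≤ P₁.asIdeal := (hone P₁ hP₁n).resolve_left hP₁'
    have hJuP₂ : Ju ≤ P₂.asIdeal := (hone P₂ hP₂n).resolve_right hP₂'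
    have hprod_le : ∀ P : Ideal C, P.IsPrime → Ju * Jv ≤ P := by
      intro P hPp
      by_cases hPm : (⟨P, hPp⟩ : PrimeSpectrum C) = closedPoint C
      · have hPeq : P = maximalIdeal C := congrArg PrimeSpectrum.asIdeal hPm
        rw [hPeq]
        exact Ideal.mul_le_left.trans (hJuP₂.trans (IsLocalRing.le_maximalIdeal P₂.2.ne_top))
      · rcases hone ⟨P, hPp⟩ hPm with h | h
        · exact Ideal.mul_le_left.trans h
        · exact Ideal.mul_le_right.trans h
    have hnil : Ju * Jv ≤ nilradical C := by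
      rw [nilradical_eq_sInf]
      exact le_sInf (fun P hP => hprod_le P hP)
    obtain ⟨n, hn⟩ := IsNoetherianRing.isNilpotent_nilradical C
    have hN : (Ju * Jv) ^ (n + 1) = ⊥ := by
      rw [eq_bot_iff]
      calc (Ju * Jv) ^ (n + 1) ≤ (nilradical C) ^ (n + 1) := Ideal.pow_right_mono hnil _
        _ = ⊥ := by rw [pow_succ, hn, zero_mul, Ideal.zero_eq_bot]
    obtain ⟨𝔟₁, h𝔟₁⟩ : ∃ I : Ideal C, I = Ju ^ (n + 1) := ⟨_, rfl⟩
    obtain ⟨𝔟₂, h𝔟₂⟩ : ∃ I : Ideal C, I = Jv ^ (n + 1) := ⟨_, rfl⟩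
    have hb12 : 𝔟₁ * 𝔟₂ = ⊥ := by rw [h𝔟₁, h𝔟₂, ← mul_pow, hN]
    obtain ⟨k, hk⟩ := Ideal.exists_pow_inf_eq_pow_smul 𝔟₁ (𝔟₂ : Submodule C C)
    have hAR : 𝔟₁ ^ (k + 1) ⊓ 𝔟₂ = ⊥ := by
      have h1 := hk (k + 1) (Nat.le_succ k)
      rw [Nat.add_sub_cancel_left, pow_one] at h1
      rw [eq_bot_iff]
      have h2 : 𝔟₁ ^ (k + 1) ⊓ 𝔟₂ ≤ 𝔟₁ ^ (k + 1) • (⊤ : Submodule C C) ⊓ 𝔟₂ := by
        rw [Ideal.smul_eq_mul, Ideal.mul_top]
      refine h2.trans ?_
      rw [h1]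
      calc 𝔟₁ • (𝔟₁ ^ k • (⊤ : Submodule C C) ⊓ 𝔟₂) ≤ 𝔟₁ • 𝔟₂ :=
            Submodule.smul_mono le_rfl inf_le_right
        _ = ⊥ := by rw [Ideal.smul_eq_mul, hb12]
    have hprim : maximalIdeal C ≤ (𝔟₁ ^ (k + 1) ⊔ 𝔟₂).radical := by
      rw [Ideal.radical_eq_sInf]
      refine le_sInf ?_
      rintro P' ⟨hle, hP'⟩
      haveI := hP'
      have h1 : Ju ≤ P' := by
        have h3 : Ju ^ ((n + 1) * (k + 1)) ≤ P' := by
          rw [pow_mul, ← h𝔟₁]
          exact le_sup_left.trans hle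
        exact Ideal.IsPrime.le_of_pow_le h3
      have h2 : Jv ≤ P' := by
        have h3 : Jv ^ (n + 1) ≤ P' := by
          rw [← h𝔟₂]
          exact le_sup_right.trans hle
        exact Ideal.IsPrime.le_of_pow_le h3
      by_contra hne
      have hPne : (⟨P', hP'⟩ : PrimeSpectrum C) ≠ closedPoint C := by
        intro h
        apply hne
        have h4 : P' = maximalIdeal C := congrArg PrimeSpectrum.asIdeal h
        rw [h4]
      exact hnotboth ⟨P', hP'⟩ hPne ⟨h1, h2⟩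
    obtain ⟨L, hL⟩ := Ideal.exists_pow_le_of_le_radical_of_fg hprim (IsNoetherian.noetherian _)
    have hdesc : ∀ z ∈ (maximalIdeal D) ^ L, ∃ x : D, algebraMap D C x ∈ 𝔟₂ ∧
        algebraMap D C (z - x) ∈ 𝔟₁ ^ (k + 1) := by
      intro z hz
      apply exists_comap_decomp D C hsurj (𝔟₁ ^ (k + 1)) 𝔟₂ hAR L hL z
      apply hL
      rw [← hmap, ← Ideal.map_pow]
      exact Ideal.mem_map_of_mem _ hz
    obtain ⟨𝔞₁, h𝔞₁⟩ : ∃ I : Ideal D, I = (𝔟₁ ^ (k + 1)).comap (algebraMap D C) := ⟨_, rfl⟩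
    obtain ⟨𝔞₂, h𝔞₂⟩ : ∃ I : Ideal D, I = 𝔟₂.comap (algebraMap D C) := ⟨_, rfl⟩
    have hsum : (maximalIdeal D) ^ L ≤ 𝔞₁ ⊔ 𝔞₂ := by
      intro z hz
      obtain ⟨x, hx2, hx1⟩ := hdesc z hz
      have e : z = (z - x) + x := by ring
      rw [e]
      exact Submodule.add_mem_sup (by rw [h𝔞₁]; exact hx1) (by rw [h𝔞₂]; exact hx2)
    have hprodD : ∀ x ∈ 𝔞₁, ∀ y ∈ 𝔞₂, x * y = 0 := by
      intro x hx y hy
      rw [h𝔞₁] at hx
      rw [h𝔞₂] at hy
      have h1 : algebraMap D C (x * y) ∈ 𝔟₁ ^ (k + 1) ⊓ 𝔟₂ := by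
        rw [map_mul]
        exact ⟨Ideal.mul_mem_right _ _ hx, Ideal.mul_mem_left _ _ hy⟩
      rw [hAR, Ideal.mem_bot] at h1
      have h2 : x * y ∈ ((⊥ : Ideal D).map (algebraMap D C)).comap (algebraMap D C) := by
        rw [Ideal.mem_comap, Ideal.map_bot, Ideal.mem_bot]
        exact h1
      rw [Ideal.comap_map_eq_self_of_faithfullyFlat, Ideal.mem_bot] at h2
      exact h2
    have hcpD : ∀ p : PrimeSpectrum D, p ≠ closedPoint D →
        ¬ (𝔞₁ ≤ p.asIdeal ∧ 𝔞₂ ≤ p.asIdeal) := by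
      rintro p hp ⟨h1, h2⟩
      apply hp
      have h3 : (maximalIdeal D) ^ L ≤ p.asIdeal := hsum.trans (sup_le h1 h2)
      haveI := p.2
      have h4 : maximalIdeal D ≤ p.asIdeal := Ideal.IsPrime.le_of_pow_le h3
      apply PrimeSpectrum.ext
      exact ((maximalIdeal.isMaximal D).eq_of_le p.2.ne_top h4).symm
    have hV : ∀ (I : Ideal D) (p : PrimeSpectrum D),
        p ∈ (PrimeSpectrum.zeroLocus (I : Set D))ᶜ ↔ ¬ I ≤ p.asIdeal := by
      intro I p
      rw [Set.mem_compl_iff, PrimeSpectrum.mem_zeroLocus, SetLike.coe_subset_coe]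
    have hcover : ({closedPoint D}ᶜ : Set (PrimeSpectrum D)) ⊆
        (PrimeSpectrum.zeroLocus (𝔞₁ : Set D))ᶜ ∪ (PrimeSpectrum.zeroLocus (𝔞₂ : Set D))ᶜ := by
      intro p hp
      by_contra hcon
      rw [Set.mem_union, hV, hV, not_or, not_not, not_not] at hcon
      exact hcpD p hp hcon
    have hp₁ := comap_ne_closedPoint D C hsurj P₁ hP₁n
    have hp₂ := comap_ne_closedPoint D C hsurj P₂ hP₂n
    have h𝔞₂p₁ : 𝔞₂ ≤ (PrimeSpectrum.comap (algebraMap D C) P₁).asIdeal := by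
      rw [h𝔞₂]
      show Ideal.comap (algebraMap D C) 𝔟₂ ≤ Ideal.comap (algebraMap D C) P₁.asIdeal
      apply Ideal.comap_mono
      rw [h𝔟₂]
      exact (Ideal.pow_le_self (Nat.succ_ne_zero n)).trans hJvP₁
    have h𝔞₁p₂ : 𝔞₁ ≤ (PrimeSpectrum.comap (algebraMap D C) P₂).asIdeal := by
      rw [h𝔞₁]
      show Ideal.comap (algebraMap D C) (𝔟₁ ^ (k + 1)) ≤
        Ideal.comap (algebraMap D C) P₂.asIdeal
      apply Ideal.comap_mono
      refine (Ideal.pow_le_self (Nat.succ_ne_zero k)).trans ?_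
      rw [h𝔟₁]
      exact (Ideal.pow_le_self (Nat.succ_ne_zero n)).trans hJuP₂
    have hne1 : (({closedPoint D}ᶜ : Set (PrimeSpectrum D)) ∩
        (PrimeSpectrum.zeroLocus (𝔞₁ : Set D))ᶜ).Nonempty :=
      ⟨_, hp₁, (hV _ _).mpr (fun h => hcpD _ hp₁ ⟨h, h𝔞₂p₁⟩)⟩
    have hne2 : (({closedPoint D}ᶜ : Set (PrimeSpectrum D)) ∩
        (PrimeSpectrum.zeroLocus (𝔞₂ : Set D))ᶜ).Nonempty :=
      ⟨_, hp₂, (hV _ _).mpr (fun h => hcpD _ hp₂ ⟨h𝔞₁p₂, h⟩)⟩
    obtain ⟨p, hp, hp1, hp2⟩ := hD _ _ (PrimeSpectrum.isClosed_zeroLocus _).isOpen_compl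
      (PrimeSpectrum.isClosed_zeroLocus _).isOpen_compl hcover hne1 hne2
    rw [hV] at hp1 hp2
    obtain ⟨x, hx, hxp⟩ := SetLike.not_le_iff_exists.mp hp1
    obtain ⟨y, hy, hyp⟩ := SetLike.not_le_iff_exists.mp hp2
    have hxy : x * y ∈ p.asIdeal := by
      rw [hprodD x hx y hy]
      exact Ideal.zero_mem _
    rcases p.2.mem_or_mem hxy with h | h
    · exact hxp h
    · exact hyp h

end Conn

end Groth.Agent.Helper7.DimOneComp
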