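import Mathlib
import Groth.Prelude
import Groth.Agent.Lib.Helper8.DimOneUB4
import Groth.Agent.Lib.Helper7.DimOneComp.Core

set_option linter.style.haveILetI false
set_option linter.unusedVariables false
set_option linter.unusedSectionVars false
set_option linter.overlappingInstances false
set_option autoImplicit false
set_option backward.isDefEq.respectTransparency.types false
set_option backward.isDefEq.respectTransparency false
set_option synthInstance.maxHeartbeats 400000
set_option maxHeartbeats 1600000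

/-!
# helper7: a one-dimensional irreducible component of a formally isomorphic flat extension of a
henselian local domain is the whole spectrum
-/

universe u

namespace Groth.Agent.Helper7.DimOneComp

open IsLocalRing TensorProduct Groth.Agent.Helper8.GorFlat

section Dom

variable (D C : Type u) [CommRing D] [IsDomain D] [HenselianLocalRing D] [IsNoetherianRing D]
  [CommRing C] [IsLocalRing C] [IsNoetherianRing C] [Algebra D C] [Module.Flat D C]
  [IsLocalHom (algebraMap D C)]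

theorem le_of_mem_minimalPrimes
    (hsurj : ∀ (n : ℕ) (c : C), ∃ d : D,
      c - algebraMap D C d ∈ ((maximalIdeal D) ^ n).map (algebraMap D C))
    (Q₁ : Ideal C) (hQ₁ : Q₁ ∈ minimalPrimes C) (hQm : Q₁ ≠ maximalIdeal C)
    (hQ1 : ∀ P : Ideal C, P.IsPrime → Q₁ ≤ P → P = Q₁ ∨ P = maximalIdeal C)
    (P : Ideal C) [hP : P.IsPrime] : Q₁ ≤ P := by
  classical
  by_contra hnot
  haveI hQ₁p : Q₁.IsPrime := hQ₁.1.1
  obtain ⟨Q₂, hQ₂, hQ₂P⟩ := Ideal.exists_minimalPrimes_le (I := (⊥ : Ideal C)) (J := P) bot_le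
  haveI hQ₂p : Q₂.IsPrime := hQ₂.1.1
  have hne : Q₂ ≠ Q₁ := fun h => hnot (h ▸ hQ₂P)
  have hnle : ¬ Q₂ ≤ Q₁ := fun h => hne (le_antisymm h (hQ₁.2 ⟨hQ₂p, bot_le⟩ h))
  obtain ⟨t, htQ₂, htQ₁⟩ := Set.not_subset.mp hnle
  have hAnn : ∀ s c : C, c ∈ (Ideal.span {s} : Ideal C).annihilator ↔ c * s = 0 := by
    intro s c
    show c ∈ (Submodule.span C {s}).annihilator ↔ _
    rw [Submodule.mem_annihilator_span_singleton, smul_eq_mul]
  obtain ⟨I₀, ⟨s₀, hs₀, rfl⟩, hmax⟩ :=
    (set_has_maximal_iff_noetherian (R := C) (M := C)).mpr inferInstance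
      {I : Ideal C | ∃ s : C, s ∉ Q₁ ∧ I = (Ideal.span {s} : Ideal C).annihilator}
      ⟨_, 1, fun h => hQ₁p.ne_top ((Ideal.eq_top_iff_one _).mpr h), rfl⟩
  have key : ∀ s' : C, s' ∉ Q₁ → (Ideal.span {s₀ * s'} : Ideal C).annihilator =
      (Ideal.span {s₀} : Ideal C).annihilator := by
    intro s' hs'
    have hle : (Ideal.span {s₀} : Ideal C).annihilator ≤
        (Ideal.span {s₀ * s'} : Ideal C).annihilator := by
      intro c hc
      rw [hAnn] at hc ⊢
      rw [← mul_assoc, hc, zero_mul]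
    have hmem : (Ideal.span {s₀ * s'} : Ideal C).annihilator ∈
        {I : Ideal C | ∃ s : C, s ∉ Q₁ ∧ I = (Ideal.span {s} : Ideal C).annihilator} :=
      ⟨s₀ * s', fun h => (hQ₁p.mem_or_mem h).elim hs₀ hs', rfl⟩
    exact (eq_of_le_of_not_lt hle (hmax _ hmem)).symm
  obtain ⟨s, hs⟩ : ∃ s : C, s = s₀ * t := ⟨_, rfl⟩
  have hsQ₁ : s ∉ Q₁ := fun h => (hQ₁p.mem_or_mem (hs ▸ h)).elim hs₀ htQ₁
  have hsQ₂ : s ∈ Q₂ := hs ▸ Q₂.mul_mem_left _ htQ₂
  have hAs : (Ideal.span {s} : Ideal C).annihilator = (Ideal.span {s₀} : Ideal C).annihilator := by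
    rw [hs]
    exact key t htQ₁
  have hAss : (Ideal.span {s * s} : Ideal C).annihilator =
      (Ideal.span {s₀} : Ideal C).annihilator := by
    have e : s * s = s₀ * (t * s) := by rw [hs]; ring
    rw [e]
    exact key (t * s) (fun h => (hQ₁p.mem_or_mem h).elim htQ₁ hsQ₁)
  have hinf : (Ideal.span {s} : Ideal C).annihilator ⊓ Ideal.span {s} = ⊥ := by
    rw [eq_bot_iff]
    rintro c ⟨hc1, hc2⟩
    rw [Ideal.mem_bot]
    obtain ⟨c', rfl⟩ := Ideal.mem_span_singleton'.mp hc2
    have h1 : c' ∈ (Ideal.span {s * s} : Ideal C).annihilator := by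
      rw [hAnn, ← mul_assoc]
      exact (hAnn s (c' * s)).mp hc1
    rw [hAss, ← hAs, hAnn] at h1
    exact h1
  have hrad : ∀ c ∈ Q₁, ∃ r : ℕ, c ^ r ∈ (Ideal.span {s} : Ideal C).annihilator := by
    intro c hc
    have hR := IsLocalization.AtPrime.radical_map_of_mem_minimalPrimes
      (A := Localization.AtPrime Q₁) Q₁ ⊥ hQ₁
    have h1 : algebraMap C (Localization.AtPrime Q₁) c ∈
        (Ideal.map (algebraMap C (Localization.AtPrime Q₁)) ⊥).radical := by
      rw [hR]
      exact Ideal.mem_map_of_mem _ hc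
    obtain ⟨r, hr⟩ := h1
    rw [Ideal.map_bot, Ideal.mem_bot, ← map_pow,
      IsLocalization.map_eq_zero_iff Q₁.primeCompl (Localization.AtPrime Q₁)] at hr
    obtain ⟨m, hm⟩ := hr
    refine ⟨r, ?_⟩
    rw [hAs, ← key m.1 m.2, hAnn, mul_comm s₀, ← mul_assoc, mul_comm (c ^ r), hm, zero_mul]
  have hprim : maximalIdeal C ≤
      ((Ideal.span {s} : Ideal C).annihilator ⊔ Ideal.span {s}).radical := by
    rw [Ideal.radical_eq_sInf]
    refine le_sInf ?_
    rintro P' ⟨hP'le, hP'⟩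
    have hQP' : Q₁ ≤ P' := by
      intro c hc
      obtain ⟨r, hr⟩ := hrad c hc
      exact hP'.mem_of_pow_mem r (hP'le (Ideal.mem_sup_left hr))
    rcases hQ1 P' hP' hQP' with h | h
    · exfalso
      apply hsQ₁
      rw [← h]
      exact hP'le (Ideal.mem_sup_right (Ideal.mem_span_singleton_self s))
    · exact h.ge
  obtain ⟨L, hL⟩ := Ideal.exists_pow_le_of_le_radical_of_fg hprim (IsNoetherian.noetherian _)
  rcases pow_le_or_pow_le D C hsurj _ _ hinf L hL with h | h
  · apply hQm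
    have h1 : maximalIdeal C ≤ Q₁ := by
      refine Ideal.IsPrime.le_of_pow_le (n := L) (h.trans ?_)
      intro c hc
      rw [hAnn] at hc
      have h2 : c * s ∈ Q₁ := by rw [hc]; exact Q₁.zero_mem
      exact (hQ₁p.mem_or_mem h2).resolve_right hsQ₁
    exact le_antisymm (IsLocalRing.le_maximalIdeal hQ₁p.ne_top) h1
  · apply hnle
    have h1 : maximalIdeal C ≤ Q₂ := by
      refine Ideal.IsPrime.le_of_pow_le (n := L) (h.trans ?_)
      rw [Ideal.span_le, Set.singleton_subset_iff]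
      exact hsQ₂
    have h2 : Q₁ ≤ Q₂ := (IsLocalRing.le_maximalIdeal hQ₁p.ne_top).trans h1
    exact hQ₂.2 ⟨hQ₁p, bot_le⟩ h2

end Dom

section Gen

variable (D C : Type u) [CommRing D] [HenselianLocalRing D] [IsNoetherianRing D]
  [CommRing C] [IsLocalRing C] [IsNoetherianRing C] [Algebra D C] [Module.Flat D C]
  [IsLocalHom (algebraMap D C)]

theorem le_of_map_comap_le
    (hsurj : ∀ (n : ℕ) (c : C), ∃ d : D,
      c - algebraMap D C d ∈ ((maximalIdeal D) ^ n).map (algebraMap D C))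
    (Q₁ : Ideal C) (hQ₁ : Q₁ ∈ minimalPrimes C) (hdim : ringKrullDim (C ⧸ Q₁) = 1)
    (P : Ideal C) [P.IsPrime]
    (hP : (Q₁.comap (algebraMap D C)).map (algebraMap D C) ≤ P) : Q₁ ≤ P := by
  classical
  haveI hQ₁p : Q₁.IsPrime := hQ₁.1.1
  have hQm : Q₁ ≠ maximalIdeal C := by
    intro h
    haveI : Q₁.IsMaximal := h ▸ maximalIdeal.isMaximal C
    letI := Ideal.Quotient.field Q₁
    rw [ringKrullDim_eq_zero_of_field] at hdim
    exact zero_ne_one hdim
  have hQ1 : ∀ P' : Ideal C, P'.IsPrime → Q₁ ≤ P' → P' = Q₁ ∨ P' = maximalIdeal C := by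
    intro P' hP' hle
    haveI : Ring.KrullDimLE 1 (C ⧸ Q₁) := Ring.krullDimLE_iff.mpr (by rw [hdim]; rfl)
    have hPbar : (P'.map (Ideal.Quotient.mk Q₁)).IsPrime :=
      Ideal.map_isPrime_of_surjective Ideal.Quotient.mk_surjective
        (by rw [Ideal.mk_ker]; exact hle)
    have hcomap : (P'.map (Ideal.Quotient.mk Q₁)).comap (Ideal.Quotient.mk Q₁) = P' := by
      rw [Ideal.comap_map_of_surjective _ Ideal.Quotient.mk_surjective,
        ← RingHom.ker_eq_comap_bot, Ideal.mk_ker]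
      exact sup_eq_left.mpr hle
    rcases (Ring.krullDimLE_one_iff.mp inferInstance) _ hPbar with hmin | hmaxl
    · left
      have hbot : P'.map (Ideal.Quotient.mk Q₁) ≤ ⊥ :=
        hmin.2 ⟨Ideal.bot_prime, bot_le⟩ bot_le
      rw [← hcomap, le_bot_iff.mp hbot, ← RingHom.ker_eq_comap_bot, Ideal.mk_ker]
    · right
      haveI := hmaxl
      have hmx : ((P'.map (Ideal.Quotient.mk Q₁)).comap (Ideal.Quotient.mk Q₁)).IsMaximal :=
        Ideal.comap_isMaximal_of_surjective _ Ideal.Quotient.mk_surjective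
      rw [hcomap] at hmx
      exact IsLocalRing.eq_maximalIdeal hmx
  obtain ⟨p, hp⟩ : ∃ p : Ideal D, p = Q₁.comap (algebraMap D C) := ⟨_, rfl⟩
  rw [← hp] at hP
  haveI hpprime : p.IsPrime := by rw [hp]; exact Ideal.IsPrime.comap _
  have hple : p ≤ maximalIdeal D := IsLocalRing.le_maximalIdeal hpprime.ne_top
  have hpC : p.map (algebraMap D C) ≤ maximalIdeal C :=
    (Ideal.map_mono hple).trans (Groth.Agent.Helper8.DimOneUB.map_maximalIdeal_le D C)
  haveI : IsLocalRing (D ⧸ p) := isLocalRing_quot p hple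
  haveI : IsLocalRing (C ⧸ p.map (algebraMap D C)) := isLocalRing_quot _ hpC
  haveI : HenselianLocalRing (D ⧸ p) := Groth.Agent.S0505.result D (D ⧸ p)
  haveI : Module.Flat (D ⧸ p) (C ⧸ p.map (algebraMap D C)) :=
    Module.Flat.of_linearEquiv
      (Algebra.TensorProduct.quotIdealMapEquivQuotTensor C p).toLinearEquiv
  haveI : IsLocalHom (algebraMap (D ⧸ p) (C ⧸ p.map (algebraMap D C))) := by
    haveI := isLocalHom_mk _ hpC
    constructor
    intro a ha
    obtain ⟨a, rfl⟩ := Ideal.Quotient.mk_surjective a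
    have h1 : IsUnit (Ideal.Quotient.mk (p.map (algebraMap D C)) (algebraMap D C a)) := ha
    have h2 : IsUnit (algebraMap D C a) := isUnit_of_map_unit _ _ h1
    exact (isUnit_of_map_unit (algebraMap D C) a h2).map _
  have hmaxq : maximalIdeal (D ⧸ p) = (maximalIdeal D).map (Ideal.Quotient.mk p) :=
    (maximalIdeal_quot p).symm
  have hsurj' : ∀ (n : ℕ) (c : C ⧸ p.map (algebraMap D C)), ∃ d : D ⧸ p,
      c - algebraMap (D ⧸ p) (C ⧸ p.map (algebraMap D C)) d ∈
        ((maximalIdeal (D ⧸ p)) ^ n).map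
          (algebraMap (D ⧸ p) (C ⧸ p.map (algebraMap D C))) := by
    intro n c
    obtain ⟨c, rfl⟩ := Ideal.Quotient.mk_surjective c
    obtain ⟨d, hd⟩ := hsurj n c
    refine ⟨Ideal.Quotient.mk p d, ?_⟩
    have h1 : Ideal.Quotient.mk (p.map (algebraMap D C)) (c - algebraMap D C d) ∈
        (((maximalIdeal D) ^ n).map (algebraMap D C)).map
          (Ideal.Quotient.mk (p.map (algebraMap D C))) := Ideal.mem_map_of_mem _ hd
    rw [Ideal.map_map] at h1
    have h2 : (Ideal.Quotient.mk (p.map (algebraMap D C))).comp (algebraMap D C) =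
        (algebraMap (D ⧸ p) (C ⧸ p.map (algebraMap D C))).comp (Ideal.Quotient.mk p) := by
      ext a; rfl
    rw [h2, ← Ideal.map_map, Ideal.map_pow, ← hmaxq, map_sub] at h1
    exact h1
  have hm₁ : Q₁ ∈ (p.map (algebraMap D C)).minimalPrimes := by
    refine ⟨⟨hQ₁.1.1, ?_⟩, fun Q' hQ' hle => hQ₁.2 ⟨hQ'.1, bot_le⟩ hle⟩
    rw [Ideal.map_le_iff_le_comap, hp]
  rw [Ideal.minimalPrimes_eq_comap] at hm₁
  obtain ⟨R₁, hR₁, e₁⟩ := hm₁
  have hmapcomap : ∀ J : Ideal (C ⧸ p.map (algebraMap D C)),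
      (J.comap (Ideal.Quotient.mk (p.map (algebraMap D C)))).map
        (Ideal.Quotient.mk (p.map (algebraMap D C))) = J :=
    fun J => Ideal.map_comap_of_surjective _ Ideal.Quotient.mk_surjective J
  have hRm : R₁ ≠ maximalIdeal (C ⧸ p.map (algebraMap D C)) := by
    intro h
    apply hQm
    rw [← e₁, h]
    have hmx : ((maximalIdeal (C ⧸ p.map (algebraMap D C))).comap
        (Ideal.Quotient.mk (p.map (algebraMap D C)))).IsMaximal :=
      Ideal.comap_isMaximal_of_surjective _ Ideal.Quotient.mk_surjective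
    exact IsLocalRing.eq_maximalIdeal hmx
  have hR1 : ∀ P' : Ideal (C ⧸ p.map (algebraMap D C)), P'.IsPrime → R₁ ≤ P' →
      P' = R₁ ∨ P' = maximalIdeal (C ⧸ p.map (algebraMap D C)) := by
    intro P' hP' hle
    haveI := hP'
    have hle' : Q₁ ≤ P'.comap (Ideal.Quotient.mk (p.map (algebraMap D C))) := by
      rw [← e₁]
      exact Ideal.comap_mono hle
    rcases hQ1 _ (Ideal.IsPrime.comap _) hle' with h | h
    · left
      rw [← hmapcomap P', h, ← e₁, hmapcomap]
    · right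
      rw [← hmapcomap P', h]
      exact maximalIdeal_quot _
  have hPbar : (P.map (Ideal.Quotient.mk (p.map (algebraMap D C)))).IsPrime :=
    Ideal.map_isPrime_of_surjective Ideal.Quotient.mk_surjective
      (by rw [Ideal.mk_ker]; exact hP)
  haveI := hPbar
  have hkey := le_of_mem_minimalPrimes (D ⧸ p) (C ⧸ p.map (algebraMap D C)) hsurj' R₁ hR₁ hRm hR1
    (P.map (Ideal.Quotient.mk (p.map (algebraMap D C))))
  intro c hc
  have h1 : Ideal.Quotient.mk (p.map (algebraMap D C)) c ∈ R₁ := by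
    have h0 : c ∈ R₁.comap (Ideal.Quotient.mk (p.map (algebraMap D C))) := by
      rw [e₁]; exact hc
    exact h0
  obtain ⟨x, hx, hxc⟩ :=
    (Ideal.mem_map_iff_of_surjective _ Ideal.Quotient.mk_surjective).mp (hkey h1)
  have h2 : x - c ∈ p.map (algebraMap D C) := Ideal.Quotient.eq.mp hxc
  have h3 : c = x - (x - c) := by ring
  rw [h3]
  exact P.sub_mem hx (hP h2)

end Gen

end Groth.Agent.Helper7.DimOneComp
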